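import Groth.Agent.FlatMor.FibreStalk
import Groth.Agent.Dim.LocalHom
import Groth.Agent.FlatMor.DimOne
import Groth.Prelude.Def_EGA43

/-! # The dimension formula at points where the morphism is open -/

set_option autoImplicit false
set_option linter.style.haveILetI false

universe u

open CategoryTheory AlgebraicGeometry IsLocalRing TopologicalSpace Topology

namespace Groth.Agent.DimOpen

variable {X Y : Scheme.{u}} (f : X ⟶ Y) (x : X)

theorem ringKrullDim_fibre_stalk :
    ringKrullDim ((f.fiber (f x)).presheaf.stalk (f.asFiber x)) =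
      ringKrullDim (X.presheaf.stalk x ⧸ (maximalIdeal (Y.presheaf.stalk (f x))).map (f.stalkMap x).hom) := by
  obtain ⟨e⟩ := FlatMor.FibreStalk.exists_fibre_stalk_equiv f x
  exact (ringKrullDim_eq_of_ringEquiv e).symm

theorem dim_le_add [IsLocallyNoetherian X] [IsLocallyNoetherian Y] :
    ringKrullDim (X.presheaf.stalk x) ≤
      ringKrullDim (Y.presheaf.stalk (f x)) + ringKrullDim ((f.fiber (f x)).presheaf.stalk (f.asFiber x)) := by
  rw [ringKrullDim_fibre_stalk]
  letI := (f.stalkMap x).hom.toAlgebra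
  haveI : IsLocalHom (algebraMap (Y.presheaf.stalk (f x)) (X.presheaf.stalk x)) :=
    inferInstanceAs (IsLocalHom (f.stalkMap x).hom)
  exact Dim.ringKrullDim_le_add_fibre _ _

/-- A point `z` where `f` is open has generisations over all generisations of `f z`. -/
theorem exists_specializes_of_isOpenAt [IsLocallyNoetherian X] {z : X}
    (h : EGA43.IsOpenAt f.base z) {y' : Y} (hy' : y' ⤳ f z) : ∃ z', z' ⤳ z ∧ f z' = y' := by
  obtain ⟨_, ⟨U, hU, rfl⟩, hzU, -⟩ := X.isBasis_affineOpens.exists_subset_of_mem_open (Set.mem_univ z) isOpen_univ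
  replace hU : IsAffineOpen U := hU
  haveI := IsLocallyNoetherian.component_noetherian (⟨U, hU⟩ : X.affineOpens)
  haveI : NoetherianSpace (↥U : Type u) :=
    (noetherianSpace_iff_of_homeomorph hU.isoSpec.hom.homeomorph).mpr inferInstance
  let S : Set (↥U : Type u) := {w | f w.1 = y'}
  by_contra! hno
  haveI : QuasiSober ↥S := by
    haveI : QuasiSober ↥(f ⁻¹' {y'}) := (f.fiberHomeo y').symm.isClosedEmbedding.quasiSober
    let j : ↥S → ↥(f ⁻¹' {y'}) := fun w => ⟨w.1.1, w.2⟩
    have hj : IsOpenEmbedding j := by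
      refine ⟨⟨IsInducing.of_comp (by fun_prop) continuous_subtype_val ((IsInducing.subtypeVal (t := (U : Set X))).comp (IsInducing.subtypeVal (t := S))),
        fun a b hab => Subtype.ext (Subtype.ext (congrArg (fun w : f ⁻¹' {y'} => (w : X)) hab))⟩, ?_⟩
      have : Set.range j = Subtype.val ⁻¹' (U : Set X) := by
        ext w
        exact ⟨fun ⟨a, ha⟩ => ha ▸ a.1.2, fun hw => ⟨⟨⟨w.1, hw⟩, w.2⟩, rfl⟩⟩
      rw [this]
      exact U.2.preimage continuous_subtype_val
    exact hj.quasiSober
  have hfin := NoetherianSpace.finite_irreducibleComponents (α := ↥S)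
  choose g hg using fun C : irreducibleComponents ↥S => QuasiSober.sober C.2.1 (isClosed_of_mem_irreducibleComponents _ C.2)
  haveI := hfin.to_subtype
  have hW : IsOpen ((U : Set X) \ ⋃ C, closure {(g C).1.1}) := U.2.sdiff (isClosed_iUnion_of_finite fun C => isClosed_closure)
  have hzW : z ∈ (U : Set X) \ ⋃ C, closure {(g C).1.1} := ⟨hzU, by
    simp only [Set.mem_iUnion, not_exists]
    exact fun C hC => hno _ (specializes_iff_mem_closure.mpr hC) (g C).2⟩
  obtain ⟨w, ⟨hwU, hwC⟩, hw⟩ : y' ∈ f '' ((U : Set X) \ ⋃ C, closure {(g C).1.1}) := by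
    obtain ⟨O, hOs, hO, hyO⟩ := mem_nhds_iff.mp (h _ (hW.mem_nhds hzW))
    exact hOs (hy'.mem_open hO hyO)
  let w' : ↥S := ⟨⟨w, hwU⟩, hw⟩
  let C : irreducibleComponents ↥S := ⟨_, irreducibleComponent_mem_irreducibleComponents w'⟩
  have hgC : g C ⤳ w' := (hg C).specializes mem_irreducibleComponent
  exact hwC (Set.mem_iUnion.mpr ⟨C, specializes_iff_mem_closure.mp
    ((hgC.map continuous_subtype_val).map continuous_subtype_val)⟩)

/-- The dimension formula when the morphism is open at the generic points of the fibre components. -/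
theorem dim_eq_add [IsLocallyNoetherian X] [IsLocallyNoetherian Y]
    (h : ∀ z : ↥(f.fiber (f x)), f.asFiber x ∈ closure {z} →
      (∀ z' : ↥(f.fiber (f x)), z ∈ closure {z'} → z' = z) → EGA43.IsOpenAt f.base (f.fiberι (f x) z)) :
    ringKrullDim (X.presheaf.stalk x) =
      ringKrullDim (Y.presheaf.stalk (f x)) + ringKrullDim ((f.fiber (f x)).presheaf.stalk (f.asFiber x)) := by
  refine le_antisymm (dim_le_add f x) ?_
  rw [ringKrullDim_fibre_stalk]
  letI := (f.stalkMap x).hom.toAlgebra
  haveI : IsLocalHom (algebraMap (Y.presheaf.stalk (f x)) (X.presheaf.stalk x)) :=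
    inferInstanceAs (IsLocalHom (f.stalkMap x).hom)
  refine Dim.ringKrullDim_eq_add_fibre_of_no_component _ _ fun p hp hpm q hq hqm => ?_
  haveI := hq.1.1
  let q' : PrimeSpectrum (X.presheaf.stalk x) := ⟨q, inferInstance⟩
  let p' : PrimeSpectrum (Y.presheaf.stalk (f x)) := ⟨p, hp⟩
  let z := X.fromSpecStalk x q'
  have hzx : z ⤳ x := FlatMor.DimOne.fromSpecStalk_specializes x q'
  have hfz : f z = f x := by
    show f (X.fromSpecStalk x q') = f x
    rw [FlatMor.DimOne.apply_fromSpecStalk]
    have : Spec.map (f.stalkMap x) q' = closedPoint (Y.presheaf.stalk (f x)) := PrimeSpectrum.ext hqm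
    rw [this, Scheme.fromSpecStalk_closedPoint]
  let zf : f.fiber (f x) := (f.fiberHomeo (f x)).symm ⟨z, hfz⟩
  have hzf : f.fiberι (f x) zf = z := congrArg Subtype.val ((f.fiberHomeo (f x)).apply_symm_apply ⟨z, hfz⟩)
  have hemb := (f.fiberι (f x)).isEmbedding.isInducing
  have hopen := h zf (specializes_iff_mem_closure.mp (hemb.specializes_iff.mp (by
      rw [hzf, f.fiberι_asFiber]; exact hzx))) fun z' hz' => by
    refine (f.fiberι (f x)).isEmbedding.injective ?_
    rw [hzf]
    have h1 : f.fiberι (f x) z' ⤳ z := hzf ▸ (specializes_iff_mem_closure.mpr hz').map (f.fiberι (f x)).continuous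
    obtain ⟨q'', hq''⟩ : f.fiberι (f x) z' ∈ Set.range (X.fromSpecStalk x) := by
      rw [Scheme.range_fromSpecStalk]; exact h1.trans hzx
    rw [← hq'']
    show X.fromSpecStalk x q'' = X.fromSpecStalk x q'
    have hle : q''.asIdeal ≤ q := (PrimeSpectrum.le_iff_specializes q'' q').mpr
      ((X.fromSpecStalk x).isEmbedding.isInducing.specializes_iff.mp (by rw [hq'']; exact h1))
    have hm : maximalIdeal (Y.presheaf.stalk (f x)) ≤ q''.asIdeal.comap (f.stalkMap x).hom := by
      have h2 : f (X.fromSpecStalk x q'') = f x := by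
        rw [hq'']
        have : f.fiberι (f x) z' ∈ f ⁻¹' {f x} := f.range_fiberι (f x) ▸ ⟨z', rfl⟩
        exact this
      rw [FlatMor.DimOne.apply_fromSpecStalk] at h2
      replace h2 := h2.trans (Scheme.fromSpecStalk_closedPoint (x := f x)).symm
      exact (congrArg PrimeSpectrum.asIdeal ((Y.fromSpecStalk (f x)).isEmbedding.injective h2)).ge
    have : p.map (algebraMap (Y.presheaf.stalk (f x)) (X.presheaf.stalk x)) ≤ q''.asIdeal :=
      Ideal.map_le_iff_le_comap.mpr ((le_maximalIdeal hp.ne_top).trans hm)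
    exact congrArg _ (PrimeSpectrum.ext (le_antisymm hle (hq.2 ⟨q''.isPrime, this⟩ hle)))
  rw [hzf] at hopen
  obtain ⟨z', hz'z, hz'⟩ := exists_specializes_of_isOpenAt f hopen (y' := Y.fromSpecStalk (f x) p')
    (by rw [hfz]; exact FlatMor.DimOne.fromSpecStalk_specializes (f x) p')
  obtain ⟨q'', rfl⟩ : z' ∈ Set.range (X.fromSpecStalk x) := by
    rw [Scheme.range_fromSpecStalk]; exact hz'z.trans hzx
  rw [FlatMor.DimOne.apply_fromSpecStalk] at hz'
  have hpq : q''.asIdeal.comap (f.stalkMap x).hom = p :=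
    congrArg PrimeSpectrum.asIdeal ((Y.fromSpecStalk (f x)).isEmbedding.injective hz')
  have hle : q''.asIdeal ≤ q := (PrimeSpectrum.le_iff_specializes q'' q').mpr
    ((X.fromSpecStalk x).isEmbedding.isInducing.specializes_iff.mp hz'z)
  have heq : q''.asIdeal = q := le_antisymm hle
    (hq.2 ⟨q''.isPrime, Ideal.map_le_iff_le_comap.mpr hpq.ge⟩ hle)
  exact hpm (hpq.symm.trans (heq.symm ▸ hqm))

end Groth.Agent.DimOpen
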