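import Groth.Agent.DimOpen.Basic
import Groth.Agent.DimIneq.Basic
import Groth.Agent.CycLib.FibreDim
import Groth.Agent.FlatMisc.FibreDimScheme
import Groth.Agent.RegLoc.Basic

/-! # The dimension formula against the generic fibre -/

set_option autoImplicit false
set_option linter.style.haveILetI false

universe u

open CategoryTheory AlgebraicGeometry IsLocalRing TopologicalSpace Topology

namespace Groth.Agent.DimOpen

variable {X Y : Scheme.{u}} (f : X ⟶ Y) [LocallyOfFiniteType f]

/-- Local fibre dimension and transcendence degree at a point, as natural numbers. -/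
theorem exists_fibreDimAt (x : X) :
    ∃ c n : ℕ, ringKrullDim ((f.fiber (f x)).presheaf.stalk (f.asFiber x)) = c ∧
      @Algebra.trdeg (Y.residueField (f x)) (X.residueField x) _ _ (f.residueFieldMap x).hom.toAlgebra = n ∧
      FlatMor.fibreDimAt f x = ((c + n : ℕ) : WithBot ℕ∞) := by
  letI := f.fiberOverSpecResidueField (f x)
  haveI : LocallyOfFiniteType ((f.fiber (f x)) ↘ Spec (CommRingCat.of (Y.residueField (f x)))) :=
    CycLib.locallyOfFiniteType_fiberToSpecResidueField f (f x)
  obtain ⟨c, hc, hloc⟩ := VarDim.localDim_eq_coheight_add (Y.residueField (f x)) (f.asFiber x)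
  refine ⟨c, VarDim.dimPt (Y.residueField (f x)) (f.fiber (f x)) (f.asFiber x), ?_, ?_, hloc⟩
  · rw [ringKrullDim_stalk_eq_coheight, hc]; rfl
  · have key : ∀ (x' : X) (s : Y) (z : f.fiber s), f.fiberι s z = x' →
        letI := f.fiberOverSpecResidueField s
        @Algebra.trdeg (Y.residueField (f x')) (X.residueField x') _ _ (f.residueFieldMap x').hom.toAlgebra =
          VarDim.dimPt (Y.residueField s) (f.fiber s) z := by
      rintro _ s z rfl
      exact CycLib.trdeg_fibre f s z
    exact key x (f x) (f.asFiber x) (f.fiberι_asFiber x)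

theorem topDim_genericFibre [IrreducibleSpace X] :
    ∃ E : ℕ, @Algebra.trdeg (Y.residueField (f (genericPoint X))) (X.residueField (genericPoint X)) _ _
        (f.residueFieldMap (genericPoint X)).hom.toAlgebra = E ∧
      topologicalKrullDim ↥(f.fiber (f (genericPoint X))) = E ∧
      FlatMor.fibreDimAt f (genericPoint X) = E := by
  let η := genericPoint X
  let F := f.fiber (f η)
  let k := Y.residueField (f η)
  letI := f.fiberOverSpecResidueField (f η)
  haveI : LocallyOfFiniteType (F ↘ Spec (CommRingCat.of k)) :=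
    CycLib.locallyOfFiniteType_fiberToSpecResidueField f (f η)
  have hgen : ∀ z : F, f.asFiber η ⤳ z := fun z => (f.fiberι (f η)).isEmbedding.isInducing.specializes_iff.mp
    (by rw [f.fiberι_asFiber]; exact genericPoint_specializes _)
  have hg : IsGenericPoint (f.asFiber η) (Set.univ : Set F) :=
    isGenericPoint_iff_specializes.mpr fun z => ⟨fun _ => trivial, fun _ => hgen z⟩
  haveI : IrreducibleSpace F := (irreducibleSpace_def _).mpr hg.isIrreducible
  have hgp : genericPoint F = f.asFiber η := (genericPoint_spec F).eq hg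
  have htop : topologicalKrullDim ↥F = VarDim.dimPt k F (f.asFiber η) := by
    rw [VarDim.topologicalKrullDim_eq_of_irreducible k, hgp]
  obtain ⟨c, n, hc, hn, hfd⟩ := exists_fibreDimAt f η
  have hn' : VarDim.dimPt k F (f.asFiber η) = n := by
    have key : ∀ (x' : X) (s : Y) (z : f.fiber s), f.fiberι s z = x' →
        letI := f.fiberOverSpecResidueField s
        @Algebra.trdeg (Y.residueField (f x')) (X.residueField x') _ _ (f.residueFieldMap x').hom.toAlgebra =
          VarDim.dimPt (Y.residueField s) (f.fiber s) z := by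
      rintro _ s z rfl
      exact CycLib.trdeg_fibre f s z
    have h1 := key η (f η) (f.asFiber η) (f.fiberι_asFiber η)
    rw [hn] at h1
    exact_mod_cast h1.symm
  have hc0 : c = 0 := by
    rw [ringKrullDim_stalk_eq_coheight] at hc
    have h0 : Order.coheight (f.asFiber η) = 0 :=
      Order.coheight_eq_zero.mpr fun z _ => hgen z
    rw [h0] at hc
    exact_mod_cast hc.symm
  subst hc0
  rw [zero_add] at hfd
  exact ⟨n, hn, by rw [← hn']; exact htop, hfd⟩

/-- The dimension formula at `x` forces the fibre dimension at `x` to be that of the generic fibre. -/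
theorem fibreDimAt_eq_of_dim_formula [IrreducibleSpace X] [IrreducibleSpace Y] [IsLocallyNoetherian Y]
    [IsDominant f] (x : X)
    (h : ringKrullDim (X.presheaf.stalk x) = ringKrullDim (Y.presheaf.stalk (f x)) +
      ringKrullDim ((f.fiber (f x)).presheaf.stalk (f.asFiber x))) :
    FlatMor.fibreDimAt f x = topologicalKrullDim ↥(f.fiber (genericPoint Y)) := by
  obtain ⟨E, hE, htop, hEη⟩ := topDim_genericFibre f
  have hfη : f (genericPoint X) = genericPoint Y := by
    refine IsGenericPoint.eq ?_ (genericPoint_spec Y)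
    have h := (genericPoint_spec X).image f.continuous
    rwa [Set.image_univ, f.denseRange.closure_range] at h
  rw [← hfη, htop]
  obtain ⟨c, n, hc, hn, hfd⟩ := exists_fibreDimAt f x
  obtain ⟨n', hn', hle⟩ := DimIneq.exists_trdeg_stalk_le f x E fun ξ hξ _ => by
    obtain rfl : ξ = genericPoint X := IsGenericPoint.eq (show IsGenericPoint ξ (Set.univ : Set X) from
      Set.eq_univ_of_univ_subset (hξ.2 (IrreducibleSpace.isIrreducible_univ _) (Set.subset_univ _)))
      (genericPoint_spec X)
    exact hE.le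
  have hnn : n' = n := by exact_mod_cast hn'.symm.trans hn
  subst hnn
  rw [h, hc] at hle
  haveI : IsNoetherianRing (Y.presheaf.stalk (f x)) := inferInstance
  obtain ⟨d, hd⟩ : ∃ d : ℕ, ringKrullDim (Y.presheaf.stalk (f x)) = d := by
    obtain ⟨d, hd, -⟩ := RegLoc.exists_natCast_eq_ringKrullDim (Y.presheaf.stalk (f x))
    exact ⟨d, hd⟩
  rw [hd] at hle
  have hle' : c + n' ≤ E := by
    have : ((d + c + n' : ℕ) : WithBot ℕ∞) ≤ ((d + E : ℕ) : WithBot ℕ∞) := by push_cast; exact hle
    have := (Nat.cast_le (α := WithBot ℕ∞)).mp this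
    omega
  rw [hfd]
  refine le_antisymm (by exact_mod_cast hle') ?_
  have hmem : genericPoint X ∈ {z : X | FlatMor.fibreDimAt f z ≤ (c + n' : ℕ)} :=
    (genericPoint_specializes x).mem_open (FlatMisc.FibreDimScheme.isOpen_fibreDimAt_le f _) hfd.le
  rw [Set.mem_ofPred_eq, hEη] at hmem
  exact hmem

section Catenary

open CycLib

theorem height_add_ge {A B : Type u} [CommRing A] [CommRing B] [Algebra A B] [IsNoetherianRing A]
    [Algebra.FiniteType A B] (p : Ideal A) [p.IsPrime] (q : Ideal B) [q.IsPrime] [q.LiesOver p]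
    (P : Ideal B) [P.IsPrime] (hPq : P ≤ q)
    (hmin : ∀ p' : PrimeSpectrum A, p'.asIdeal ≤ p → P.under A ≤ p'.asIdeal)
    (hcat : PolyCatAt A p) {t T : ℕ} (ht : Algebra.trdeg (A ⧸ p) (B ⧸ q) = t)
    (hT : Algebra.trdeg (A ⧸ P.under A) (B ⧸ P) = T) :
    p.height + T ≤ q.height + t := by
  let p0 : Ideal A := P.under A
  haveI : p0.IsPrime := Ideal.comap_isPrime _ _
  haveI : P.LiesOver p0 := ⟨rfl⟩
  haveI : IsNoetherianRing B := Algebra.FiniteType.isNoetherianRing A B
  let π := Ideal.Quotient.mk p0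
  let ρ := Ideal.Quotient.mk P
  let qb : Ideal (B ⧸ P) := q.map ρ
  let pb : Ideal (A ⧸ p0) := p.map π
  have hpp : p0 ≤ p := hmin ⟨p, ‹_›⟩ le_rfl
  haveI : pb.IsPrime := Ideal.map_isPrime_of_surjective Ideal.Quotient.mk_surjective
    (by rw [Ideal.mk_ker]; exact hpp)
  haveI : qb.IsPrime := Ideal.map_isPrime_of_surjective Ideal.Quotient.mk_surjective
    (by rw [Ideal.mk_ker]; exact hPq)
  have hpc : ∀ r : Ideal A, p0 ≤ r → (r.map π).comap π = r := fun r hr => by
    rw [Ideal.comap_map_of_surjective _ Ideal.Quotient.mk_surjective, ← RingHom.ker_eq_comap_bot,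
      Ideal.mk_ker, sup_eq_left.2 hr]
  have hqc : qb.comap ρ = q := by
    rw [Ideal.comap_map_of_surjective _ Ideal.Quotient.mk_surjective, ← RingHom.ker_eq_comap_bot,
      Ideal.mk_ker, sup_eq_left.2 hPq]
  haveI : qb.LiesOver pb := ⟨by
    apply Ideal.comap_injective_of_surjective π Ideal.Quotient.mk_surjective
    rw [hpc p hpp, Ideal.over_def q p, Ideal.under_def, Ideal.under_def, ← hqc,
      Ideal.comap_comap, Ideal.comap_comap]
    rfl⟩
  haveI : Algebra.FiniteType (A ⧸ p0) (B ⧸ P) :=
    Algebra.FiniteType.of_restrictScalars_finiteType A _ _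
  obtain ⟨hq, hp, t₂, T₂, hhq, hhp, ht₂, hT₂, -, heq⟩ := height_add_trdeg pb qb
  have hE := heq (polyCatAt_of_surjective π Ideal.Quotient.mk_surjective pb (by rwa [hpc p hpp]))
  have c : Algebra.trdeg ((A ⧸ p0) ⧸ pb) ((B ⧸ P) ⧸ qb) = Algebra.trdeg (A ⧸ p) (B ⧸ q) :=
    trdeg_congr (DoubleQuot.quotQuotEquivQuotOfLE hpp) (DoubleQuot.quotQuotEquivQuotOfLE hPq)
      (fun x => by
        obtain ⟨y, rfl⟩ := Ideal.Quotient.mk_surjective x
        obtain ⟨a, rfl⟩ := Ideal.Quotient.mk_surjective y
        rfl)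
  rw [c, ht, Nat.cast_inj] at ht₂
  rw [hT, Nat.cast_inj] at hT₂
  have hqle : qb.height ≤ q.height := by
    rw [(⟨qb, ‹_›⟩ : PrimeSpectrum (B ⧸ P)).height_eq_orderHeight,
      (⟨q, ‹_›⟩ : PrimeSpectrum B).height_eq_orderHeight]
    refine (Order.height_le_height_apply_of_strictMono (PrimeSpectrum.comap ρ) ?_ _).trans
      (le_of_eq (congr_arg Order.height (PrimeSpectrum.ext hqc)))
    intro a b hab
    refine lt_of_le_of_ne (Ideal.comap_mono hab.le) fun h => hab.ne (PrimeSpectrum.ext ?_)
    exact Ideal.comap_injective_of_surjective ρ Ideal.Quotient.mk_surjective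
      (congr_arg PrimeSpectrum.asIdeal h)
  have hple : p.height ≤ pb.height := by
    obtain ⟨s, hsl, hslen⟩ := p.exists_ltSeries_length_eq_height
    have hl : (s (Fin.last _)).asIdeal = p := congr_arg PrimeSpectrum.asIdeal hsl
    have hle : ∀ i, p0 ≤ (s i).asIdeal := fun i => hmin _ (hl ▸ s.monotone (Fin.le_last i))
    rw [← hslen, (⟨pb, ‹_›⟩ : PrimeSpectrum (A ⧸ p0)).height_eq_orderHeight]
    let g : Fin (s.length + 1) → PrimeSpectrum (A ⧸ p0) := fun i =>
      ⟨(s i).asIdeal.map π, Ideal.map_isPrime_of_surjective Ideal.Quotient.mk_surjective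
        (by rw [Ideal.mk_ker]; exact hle i)⟩
    let s' : LTSeries (PrimeSpectrum (A ⧸ p0)) := LTSeries.mk s.length g fun i j hij => by
      refine lt_of_le_of_ne (Ideal.map_mono (s.monotone hij.le)) fun h => (s.strictMono hij).ne ?_
      apply PrimeSpectrum.ext
      rw [← hpc _ (hle i), ← hpc _ (hle j)]
      exact congr_arg (fun r : PrimeSpectrum (A ⧸ p0) => r.asIdeal.comap π) h
    refine Order.length_le_height (p := s') (le_of_eq ?_)
    apply PrimeSpectrum.ext
    show (s (Fin.last _)).asIdeal.map π = p.map π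
    rw [hl]
  calc p.height + T ≤ pb.height + T := add_le_add hple le_rfl
    _ = qb.height + t := by
        rw [hhp, hhq, ← Nat.cast_add, ← Nat.cast_add]
        congr 1
        omega
    _ ≤ q.height + t := add_le_add hqle le_rfl

/-- The dimension formula from equidimensionality, over a universally catenary local ring. -/
theorem dim_formula_of_fibreDimAt_eq [IrreducibleSpace X] [IrreducibleSpace Y] [IsLocallyNoetherian Y]
    [IsDominant f] (x : X) (hcat : CAlg.IsUniversallyCatenary (Y.presheaf.stalk (f x)))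
    (h : FlatMor.fibreDimAt f x = topologicalKrullDim ↥(f.fiber (genericPoint Y))) :
    ringKrullDim (X.presheaf.stalk x) = ringKrullDim (Y.presheaf.stalk (f x)) +
      ringKrullDim ((f.fiber (f x)).presheaf.stalk (f.asFiber x)) := by
  haveI : IsLocallyNoetherian X := LocallyOfFiniteType.isLocallyNoetherian f
  refine le_antisymm (dim_le_add f x) ?_
  obtain ⟨E, hE, htop, -⟩ := topDim_genericFibre f
  have hfη : f (genericPoint X) = genericPoint Y := by
    refine IsGenericPoint.eq ?_ (genericPoint_spec Y)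
    have h := (genericPoint_spec X).image f.continuous
    rwa [Set.image_univ, f.denseRange.closure_range] at h
  obtain ⟨c, n, hc, hn, hfd⟩ := exists_fibreDimAt f x
  rw [← hfη, htop, hfd] at h
  have hcn : c + n = E := by exact_mod_cast h
  obtain ⟨V, hV, hxV, -⟩ := exists_isAffineOpen_mem_and_subset (x := f x) (U := (⊤ : Y.Opens)) trivial
  obtain ⟨U, hU, hxU, hUV⟩ := exists_isAffineOpen_mem_and_subset (x := x) (U := f ⁻¹ᵁ V) hxV
  have hηU : genericPoint X ∈ U := (genericPoint_specializes x).mem_open U.2 hxU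
  haveI : IsNoetherianRing Γ(Y, V) := IsLocallyNoetherian.component_noetherian ⟨V, hV⟩
  letI := (f.appLE V U hUV).hom.toAlgebra
  haveI : Algebra.FiniteType Γ(Y, V) Γ(X, U) := f.finiteType_appLE hV hU hUV
  haveI := liesOver_primeIdealOf f hV hU hUV hxU
  haveI := liesOver_primeIdealOf f hV hU hUV hηU
  haveI : (hU.primeIdealOf ⟨genericPoint X, hηU⟩).asIdeal.LiesOver
      ((hU.primeIdealOf ⟨genericPoint X, hηU⟩).asIdeal.under Γ(Y, V)) := ⟨rfl⟩
  have hle := height_add_ge (hV.primeIdealOf ⟨f x, hUV hxU⟩).asIdeal (hU.primeIdealOf ⟨x, hxU⟩).asIdeal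
    (hU.primeIdealOf ⟨genericPoint X, hηU⟩).asIdeal
    (by
      refine (primeIdealOf_le_iff hU _ _).2 ?_
      rw [hU.fromSpec_primeIdealOf, hU.fromSpec_primeIdealOf]
      exact genericPoint_specializes x)
    (fun p' _ => by
      rw [← Ideal.over_def (hU.primeIdealOf ⟨genericPoint X, hηU⟩).asIdeal
        (hV.primeIdealOf ⟨f (genericPoint X), hUV hηU⟩).asIdeal]
      refine (primeIdealOf_le_iff hV _ p').2 ?_
      rw [hV.fromSpec_primeIdealOf]
      show f (genericPoint X) ⤳ _
      rw [hfη]
      exact genericPoint_specializes _)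
    (by
      letI := TopCat.Presheaf.algebra_section_stalk Y.presheaf (⟨f x, hUV hxU⟩ : V)
      haveI := hV.isLocalization_stalk ⟨f x, hUV hxU⟩
      exact polyCatAt_of_isLocalization _ (Y.presheaf.stalk (f x)) hcat)
    (t := n) (T := E) ((trdeg_residueField_eq f hV hU hUV hxU).trans hn)
    ((DimIneq.trdeg_quot_congr rfl).trans ((trdeg_residueField_eq f hV hU hUV hηU).trans hE))
  rw [DimIneq.ringKrullDim_stalk_eq_height hU hxU, DimIneq.ringKrullDim_stalk_eq_height hV (hUV hxU), hc]
  obtain ⟨a, ha⟩ := exists_nat_height (hV.primeIdealOf ⟨f x, hUV hxU⟩).asIdeal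
  haveI : IsNoetherianRing Γ(X, U) := IsLocallyNoetherian.component_noetherian ⟨U, hU⟩
  obtain ⟨b, hb⟩ := exists_nat_height (R := Γ(X, U)) (hU.primeIdealOf ⟨x, hxU⟩).asIdeal
  rw [ha, hb, ← Nat.cast_add, ← Nat.cast_add, Nat.cast_le] at hle
  rw [ha, hb]
  exact_mod_cast (show a + c ≤ b by omega)

end Catenary

end Groth.Agent.DimOpen

namespace Groth.Agent.DimOpen

variable {X Y : Scheme.{u}} (f : X ⟶ Y) [LocallyOfFiniteType f]

theorem topDim_genericFibre_le [IrreducibleSpace X] [IrreducibleSpace Y] [IsDominant f] (x : X) :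
    topologicalKrullDim ↥(f.fiber (genericPoint Y)) ≤ FlatMor.fibreDimAt f x := by
  obtain ⟨E, -, htop, hEη⟩ := topDim_genericFibre f
  have hfη : f (genericPoint X) = genericPoint Y := by
    refine IsGenericPoint.eq ?_ (genericPoint_spec Y)
    have h := (genericPoint_spec X).image f.continuous
    rwa [Set.image_univ, f.denseRange.closure_range] at h
  obtain ⟨c, n, -, -, hfd⟩ := exists_fibreDimAt f x
  rw [← hfη, htop, hfd]
  have hmem : genericPoint X ∈ {z : X | FlatMor.fibreDimAt f z ≤ (c + n : ℕ)} :=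
    (genericPoint_specializes x).mem_open (FlatMisc.FibreDimScheme.isOpen_fibreDimAt_le f _) hfd.le
  rw [Set.mem_ofPred_eq, hEη] at hmem
  exact hmem

end Groth.Agent.DimOpen

namespace Groth.Agent.DimOpen

variable {X Y : Scheme.{u}} (f : X ⟶ Y) [LocallyOfFiniteType f]

theorem exists_topDim_fibre_le [CompactSpace Y] [QuasiCompact f] :
    ∃ n : ℕ, ∀ y : Y, topologicalKrullDim ↥(f.fiber y) ≤ n := by
  haveI : CompactSpace X := QuasiCompact.compactSpace_of_compactSpace f
  obtain ⟨t, ht⟩ := isCompact_univ.elim_finite_subcover (fun n : ℕ => {z : X | FlatMor.fibreDimAt f z ≤ n})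
    (fun n => FlatMisc.FibreDimScheme.isOpen_fibreDimAt_le f n) (fun z _ => by
      obtain ⟨c, n, -, -, hfd⟩ := exists_fibreDimAt f z
      exact Set.mem_iUnion.mpr ⟨c + n, hfd.le⟩)
  refine ⟨t.sup id, fun y => ?_⟩
  rw [DimIneq.topologicalKrullDim_eq_iSup_stalk]
  refine iSup_le fun z => ?_
  have key : ∀ (s : Y) (w : f.fiber s), ringKrullDim ((f.fiber s).presheaf.stalk w) ≤ (t.sup id : ℕ) := by
    suffices ∀ (x : X) (s : Y) (w : f.fiber s), f.fiberι s w = x →
        ringKrullDim ((f.fiber s).presheaf.stalk w) ≤ (t.sup id : ℕ) from fun s w => this _ s w rfl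
    intro x s w hw
    obtain rfl : f x = s := by
      rw [← hw]
      exact (f.range_fiberι s).le (Set.mem_range_self w)
    obtain rfl : w = f.asFiber x := (f.fiberι (f x)).isEmbedding.injective (hw.trans (f.fiberι_asFiber x).symm)
    obtain ⟨c, n, hc, -, hfd⟩ := exists_fibreDimAt f x
    obtain ⟨m, hm⟩ := Set.mem_iUnion.mp (ht (Set.mem_univ x))
    obtain ⟨hmt, hmx⟩ := Set.mem_iUnion.mp hm
    rw [Set.mem_ofPred_eq, hfd, Nat.cast_le] at hmx
    rw [hc, Nat.cast_le]
    have h2 : m ≤ t.sup id := Finset.le_sup (f := id) hmt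
    omega
  exact key y z

end Groth.Agent.DimOpen
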